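import Groth.Agent.NormLoc.Basic
import Groth.Prelude.Def_Found
import Mathlib.RingTheory.Localization.AsSubring

/-!
The criteria of `NormLoc.Basic` for the fraction ring of the base.
-/

set_option autoImplicit false
universe u

namespace Groth.Agent.NormLoc

variable {R : Type u} [CommRing R] [IsDomain R] (M : Submonoid R) (hM : M ≤ nonZeroDivisors R)
  (L : Type u) [CommRing L] [Algebra R L] [IsLocalization M L]

include hM in
omit [IsLocalization M L] in
theorem isUnit_map (y : M) : IsUnit (algebraMap R (FractionRing R) y) :=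
  IsLocalization.map_units (FractionRing R) (⟨y, hM y.2⟩ : nonZeroDivisors R)

include hM in
theorem isIntegrallyClosed_iff_loc :
    IsIntegrallyClosed L ↔ ∀ y : FractionRing R, IsIntegral R y →
      ∃ r ∈ M, r • y ∈ LinearMap.range (Algebra.linearMap R (FractionRing R)) := by
  letI : Algebra L (FractionRing R) := (IsLocalization.lift (S := L) (isUnit_map M hM)).toAlgebra
  haveI : IsScalarTower R L (FractionRing R) :=
    IsScalarTower.of_algebraMap_eq fun x => (IsLocalization.lift_eq (isUnit_map M hM) x).symm
  haveI : IsFractionRing L (FractionRing R) :=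
    IsFractionRing.isFractionRing_of_isLocalization M L (FractionRing R) hM
  exact isIntegrallyClosed_iff' M L

include hM in
theorem isN1_iff_loc [IsDomain L] :
    CAlg.IsN1 L ↔ ∃ s : Finset (FractionRing R), (∀ x ∈ s, IsIntegral R x) ∧
      ∀ y : FractionRing R, IsIntegral R y → ∃ r ∈ M, r • y ∈ Submodule.span R (s : Set (FractionRing R)) := by
  letI : Algebra L (FractionRing R) := (IsLocalization.lift (S := L) (isUnit_map M hM)).toAlgebra
  haveI : IsScalarTower R L (FractionRing R) :=
    IsScalarTower.of_algebraMap_eq fun x => (IsLocalization.lift_eq (isUnit_map M hM) x).symm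
  haveI : IsFractionRing L (FractionRing R) :=
    IsFractionRing.isFractionRing_of_isLocalization M L (FractionRing R) hM
  rw [← finite_closure_iff M L, CAlg.IsN1]
  exact Module.Finite.equiv_iff (FractionRing.algEquiv L (FractionRing R)).mapIntegralClosure.toLinearEquiv

/-- The good locus of the base ring itself. -/
theorem good_range_iff (p : Ideal R) [p.IsPrime] :
    Good (LinearMap.range (Algebra.linearMap R (FractionRing R))) p ↔ IsIntegrallyClosed (Localization.AtPrime p) := by
  rw [isIntegrallyClosed_iff_loc p.primeCompl p.primeCompl_le_nonZeroDivisors]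
  rfl

/-- Vanishing condition for `f`. -/
theorem away_iff {f : R} (hf : f ≠ 0) :
    IsIntegrallyClosed (Localization.Away f) ↔ ∀ y : FractionRing R, IsIntegral R y →
      ∃ n : ℕ, f ^ n • y ∈ LinearMap.range (Algebra.linearMap R (FractionRing R)) := by
  rw [isIntegrallyClosed_iff_loc (Submonoid.powers f) (powers_le_nonZeroDivisors_of_noZeroDivisors hf)]
  exact forall_congr' fun y => imp_congr_right fun _ =>
    ⟨fun ⟨_, ⟨n, rfl⟩, h⟩ => ⟨n, h⟩, fun ⟨n, h⟩ => ⟨_, ⟨n, rfl⟩, h⟩⟩

end Groth.Agent.NormLoc
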